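import Groth.Agent.ProjQMapX.Ring
import Groth.Agent.ProjBC35.AwayPushout
import Mathlib.AlgebraicGeometry.ProjectiveSpectrum.Functor

/-!
Standard opens and maps of `Proj` under scaling by units of degree zero.
-/

universe u

open CategoryTheory AlgebraicGeometry HomogeneousLocalization
open scoped HomogeneousIdeal

noncomputable section

namespace Groth.Agent.LineCone35

variable {A B σ τ : Type u} [CommRing A] [CommRing B] [SetLike σ A] [AddSubgroupClass σ A]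
  [SetLike τ B] [AddSubgroupClass τ B] {𝒜 : ℕ → σ} [GradedRing 𝒜] {ℬ : ℕ → τ} [GradedRing ℬ]

lemma awayι_scale {x y e : B} {d : ℕ} (hd : 0 < d) (hx : x ∈ ℬ d) (hy : y ∈ ℬ d) (he : e ∈ ℬ 0)
    (h : y = x * e) :
    Spec.map (CommRingCat.ofHom (HomogeneousLocalization.awayMap ℬ he h)) ≫ Proj.awayι ℬ x hx hd =
      Proj.awayι ℬ y hy hd :=
  Proj.SpecMap_awayMap_awayι ℬ hx hd he h

lemma awayMap_mk' {x y e : B} {d : ℕ} (hx : x ∈ ℬ d) (he : e ∈ ℬ 0) (h : y = x * e)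
    (n : ℕ) (b : B) (hb : b ∈ ℬ (n • d)) :
    (HomogeneousLocalization.awayMap ℬ he h (Away.mk ℬ hx n b hb)).val =
      Localization.mk (b * e ^ n) (⟨y ^ n, n, rfl⟩ : Submonoid.powers y) := by
  rw [Away.mk, val_awayMap_mk]

lemma baseToAway_eq_mk {R : Type u} [CommRing R] (ρ : R →+* B) (hρ : ∀ r, ρ r ∈ ℬ 0) {x : B} {d : ℕ}
    (hx : x ∈ ℬ d) (r : R) :
    ProjBC35.baseToAway ρ hρ x r = Away.mk ℬ hx 0 (ρ r) (by simpa using hρ r) := by
  refine val_injective _ ?_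
  rw [ProjBC35.val_baseToAway, Away.val_mk, ← Localization.mk_one_eq_algebraMap]
  congr 1
  exact Subtype.ext (pow_zero x).symm

lemma awayMap_scale_comp (r r' : 𝒜 →+*ᵍ ℬ) (e e' : B) (he' : e' ∈ ℬ 0) (hee' : e * e' = 1)
    (h : ∀ (n : ℕ), ∀ a ∈ 𝒜 n, r' a = e ^ n * r a) {s : A} {d : ℕ} (hs : s ∈ 𝒜 d)
    (hg : e' ^ d ∈ ℬ 0) (hx : r s = r' s * e' ^ d) :
    (HomogeneousLocalization.awayMap ℬ hg hx).comp (Away.map r' s) = Away.map r s := by
  refine RingHom.ext fun q => ?_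
  obtain ⟨n, a, ha, rfl⟩ := q.mk_surjective 𝒜 hs
  refine val_injective _ ?_
  rw [RingHom.comp_apply, Away.map_mk, Away.map_mk, awayMap_mk' (r'.map_mem hs) hg hx, Away.val_mk,
    h _ a ha]
  congr 1
  · rw [← pow_mul, mul_assoc, mul_comm (r a) _, ← mul_assoc, smul_eq_mul, mul_comm n d, ← mul_pow, hee',
      one_pow, one_mul]

/-- Graded maps differing by the powers of a degree zero unit induce the same map of `Proj`. -/
theorem map_eq_of_scale (r r' : 𝒜 →+*ᵍ ℬ) (hr : ℬ₊ ≤ (𝒜₊).map r) (hr' : ℬ₊ ≤ (𝒜₊).map r')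
    (e e' : B) (he' : e' ∈ ℬ 0) (hee' : e * e' = 1)
    (h : ∀ (n : ℕ), ∀ a ∈ 𝒜 n, r' a = e ^ n * r a) : Proj.map r hr = Proj.map r' hr' := by
  refine (Proj.mapAffineOpenCover r hr).openCover.hom_ext _ _ ?_
  intro c
  suffices H : ∀ (d : ℕ) (hd : 0 < d) (s : A) (hs : s ∈ 𝒜 d),
      Proj.awayι ℬ (r s) (r.map_mem hs) hd ≫ Proj.map r hr =
        Proj.awayι ℬ (r s) (r.map_mem hs) hd ≫ Proj.map r' hr' from H c.1 c.1.2 c.2 c.2.2
  intro d hd s hs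
  have hg : e' ^ d ∈ ℬ 0 := by simpa using SetLike.pow_mem_graded d he'
  have hx : r s = r' s * e' ^ d := by
    rw [h d s hs, mul_assoc, mul_comm (r s), ← mul_assoc, ← mul_pow, hee', one_pow, one_mul]
  have hy : r s ∈ ℬ d := r.map_mem hs
  have hy' : r' s ∈ ℬ d := r'.map_mem hs
  have h2 : Proj.awayι ℬ (r s) hy hd = Spec.map (CommRingCat.ofHom (HomogeneousLocalization.awayMap ℬ hg hx)) ≫
      Proj.awayι ℬ (r' s) hy' hd := (awayι_scale hd hy' hy hg hx).symm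
  rw [Proj.awayι_comp_map r hr hd s hs, h2,
    Category.assoc, Proj.awayι_comp_map r' hr' hd s hs, ← Spec.map_comp_assoc, ← CommRingCat.ofHom_comp,
    awayMap_scale_comp r r' e e' he' hee' h hs hg hx]

lemma scale_base {R R' : Type u} [CommRing R] [CommRing R'] (ρ : R →+* A) (hρ : ∀ a, ρ a ∈ 𝒜 0)
    (ρ' : R' →+* B) (hρ' : ∀ a, ρ' a ∈ ℬ 0) (r : 𝒜 →+*ᵍ ℬ) (g : R → R') (hg : ∀ a, r (ρ a) = ρ' (g a))
    {x : A} {y e : B} {d : ℕ} (hx : x ∈ 𝒜 d) (he : e ∈ ℬ 0) (h : y = r x * e) (a : R) :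
    HomogeneousLocalization.awayMap ℬ he h (ProjQMapX.awayMapTo r rfl (ProjBC35.baseToAway ρ hρ x a)) =
      ProjBC35.baseToAway ρ' hρ' y (g a) := by
  refine val_injective _ ?_
  rw [baseToAway_eq_mk ρ hρ hx, ProjQMapX.awayMapTo_mk, awayMap_mk' (r.map_mem hx) he h,
    ProjBC35.val_baseToAway, ← Localization.mk_one_eq_algebraMap]
  congr 1
  · rw [pow_zero, mul_one, hg]
  · exact Subtype.ext (pow_zero y)

lemma scale_mk_one (r : 𝒜 →+*ᵍ ℬ) {x : A} {y e : B} (hx : x ∈ 𝒜 1) (he : e ∈ ℬ 0) (h : y = r x * e)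
    (b : A) (hb : b ∈ 𝒜 (1 • 1)) (hy : y ∈ ℬ 1) (c : B) (hc : c ∈ ℬ (1 • 1)) (hbc : r b = c)
    {R : Type u} [CommRing R] (ρ : R →+* B) (hρ : ∀ a, ρ a ∈ ℬ 0) (v : R) (hv : ρ v = e) :
    HomogeneousLocalization.awayMap ℬ he h (ProjQMapX.awayMapTo r rfl (Away.mk 𝒜 hx 1 b hb)) =
      ProjBC35.baseToAway ρ hρ y v * Away.mk ℬ hy 1 c hc := by
  refine val_injective _ ?_
  rw [ProjQMapX.awayMapTo_mk, awayMap_mk' (r.map_mem hx) he h, val_mul, ProjBC35.val_baseToAway,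
    Away.val_mk, ← Localization.mk_one_eq_algebraMap, Localization.mk_mul]
  congr 1
  · rw [pow_one, hbc, hv, mul_comm]
  · exact Subtype.ext (one_mul _).symm

end Groth.Agent.LineCone35
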