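import Groth.Agent.InvX.Tensor
import Groth.Agent.InvX.GenLocusPull
import Groth.Agent.SymAlgX.GrSym

/-!
Frame pairs of mutually inverse invertible modules; the symmetric algebra on a frame.
-/

universe u

open CategoryTheory AlgebraicGeometry TopologicalSpace Opposite
open Groth.Agent.AModX Groth.Agent.InvX

noncomputable section

namespace Groth.Agent.LineCone35

variable {Y : Scheme.{u}} {L L' : Y.Modules}

/-- Frames of two modules over an affine open with prescribed product. -/
structure Pair (η : Γ(CohB1.tensorMod L L', ⊤)) where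
  U : Y.Opens
  hU : IsAffineOpen U
  t : Γ(L, U)
  t' : Γ(L', U)
  ht : IsFrame t
  ht' : IsFrame t'
  hη : InvX.tmul t t' = AModX.res (CohB1.tensorMod L L') le_top η

variable (L L') in
/-- The unit section of a trivialized tensor product. -/
def unitOfIso (φ : CohB1.tensorMod L L' ≅ Coh.structureModule Y) : Γ(CohB1.tensorMod L L', ⊤) :=
  φ.inv.app ⊤ (show Γ(Coh.structureModule Y, ⊤) from (1 : Γ(Y, ⊤)))

lemma isFrame_unitOfIso (φ : CohB1.tensorMod L L' ≅ Coh.structureModule Y) :
    IsFrame (unitOfIso L L' φ) :=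
  IsFrame.map_iso φ.symm (isFrame_one ⊤)

lemma exists_pair (hL : PicF.IsInvertible L) (hL' : PicF.IsInvertible L')
    {η : Γ(CohB1.tensorMod L L', ⊤)} (hη : IsFrame η) (y : Y) :
    ∃ c : Pair η, y ∈ c.U := by
  obtain ⟨U₀, hy₀, a, b, ha, hb⟩ := exists_frame₂ hL hL' y
  obtain ⟨_, ⟨U, hU₀, rfl⟩, hyU, hle⟩ := Y.isBasis_affineOpens.exists_subset_of_mem_open
    (show y ∈ (U₀ : Set Y) from hy₀) U₀.isOpen
  have hU : IsAffineOpen U := hU₀
  have ha' := ha.res (W := U) hle
  have hb' := hb.res (W := U) hle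
  have hab := isFrame_tmul ha' hb'
  obtain ⟨c, hc⟩ := hab.exists_coord le_rfl (AModX.res (CohB1.tensorMod L L') (le_top : U ≤ ⊤) η)
  have hcu : IsUnit c := by
    obtain ⟨d, hd⟩ := (hη.res (W := U) le_top).exists_coord le_rfl
      (InvX.tmul (AModX.res L hle a) (AModX.res L' hle b))
    simp only [AModX.res_res] at hc hd
    refine .of_mul_eq_one d (hη.coord_unique (le_top : U ≤ ⊤) ?_)
    rw [one_smul, mul_smul, ← hd]
    conv_rhs => rw [hc]
    rw [res_tmul, AModX.res_res, AModX.res_res]
  refine ⟨⟨U, hU, AModX.res L hle a, c • AModX.res L' hle b, ha', hb'.isUnit_smul hcu, ?_⟩, hyU⟩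
  rw [tmul_smul_right, hc]
  simp only [res_tmul, AModX.res_res]

namespace Pair

variable {η : Γ(CohB1.tensorMod L L', ⊤)}

/-- Restriction of a pair to a smaller affine open. -/
def restrict (c : Pair η) (W : Y.Opens) (hW : IsAffineOpen W) (h : W ≤ c.U) : Pair η where
  U := W
  hU := hW
  t := AModX.res L h c.t
  t' := AModX.res L' h c.t'
  ht := c.ht.res h
  ht' := c.ht'.res h
  hη := by rw [← res_tmul, c.hη, AModX.res_res]

/-- Two pairs differ by a unit. -/
lemma exists_unit (a b : Pair η) {W : Y.Opens} (ha : W ≤ a.U) (hb : W ≤ b.U) :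
    ∃ u : Γ(Y, W)ˣ, AModX.res L ha a.t = (u : Γ(Y, W)) • AModX.res L hb b.t ∧
      AModX.res L' ha a.t' = ((u⁻¹ : Γ(Y, W)ˣ) : Γ(Y, W)) • AModX.res L' hb b.t' := by
  obtain ⟨r, hr⟩ := b.ht.exists_coord hb (AModX.res L ha a.t)
  obtain ⟨s, hs⟩ := b.ht'.exists_coord hb (AModX.res L' ha a.t')
  have h1 : InvX.tmul (AModX.res L ha a.t) (AModX.res L' ha a.t') =
      InvX.tmul (AModX.res L hb b.t) (AModX.res L' hb b.t') := by
    rw [← res_tmul, ← res_tmul, a.hη, b.hη, AModX.res_res, AModX.res_res]
  rw [hr, hs, tmul_smul_left, tmul_smul_right, ← mul_smul] at h1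
  have hrs : r * s = 1 := (isFrame_tmul b.ht b.ht').coord_unique hb
    (by rw [one_smul, res_tmul]; exact h1)
  exact ⟨⟨r, s, hrs, by rw [mul_comm]; exact hrs⟩, hr, hs⟩

end Pair

section sym

variable {R M : Type u} [CommRing R] [AddCommGroup M] [Module R M] {t : M}

/-- The symmetric algebra of a free module of rank one. -/
lemma bijective_aeval_ι (ht : Function.Bijective fun r : R => r • t) :
    Function.Bijective (Polynomial.aeval (R := R) (SymmetricAlgebra.ι R M t)) := by
  let e : R ≃ₗ[R] M := LinearEquiv.ofBijective (LinearMap.toSpanSingleton R M t) ht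
  let f : M →ₗ[R] Polynomial R :=
    (LinearMap.toSpanSingleton R (Polynomial R) Polynomial.X).comp e.symm.toLinearMap
  let g : SymmetricAlgebra R M →ₐ[R] Polynomial R := SymmetricAlgebra.lift f
  have hg : g (SymmetricAlgebra.ι R M t) = Polynomial.X := by
    rw [SymmetricAlgebra.lift_ι_apply]
    have : e.symm t = 1 := e.symm_apply_eq.mpr (one_smul R t).symm
    simp [f, this]
  refine ⟨Function.LeftInverse.injective (g := g) fun P => ?_,
    Function.RightInverse.surjective (g := g) fun a => ?_⟩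
  · exact DFunLike.congr_fun (Polynomial.algHom_ext (f := g.comp (Polynomial.aeval _))
      (g := AlgHom.id R _) (by simpa using hg)) P
  · refine DFunLike.congr_fun (show (Polynomial.aeval (SymmetricAlgebra.ι R M t)).comp g = AlgHom.id R _ from ?_) a
    refine SymmetricAlgebra.algHom_ext (LinearMap.ext fun m => ?_)
    obtain ⟨r, rfl⟩ := ht.2 m
    simp [hg]

end sym

/-- Over an affine open with a frame, a symmetric algebra is a polynomial ring. -/
theorem bijective_eval₂ {A : RelSpec.QCAlg Y} {j : L ⟶ A.toModule} (hLq : Coh.IsQCoh L)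
    (hA : RelSpec.IsSymAlg L A j) (U : Y.Opens) (hU : IsAffineOpen U) {t : Γ(L, U)} (ht : IsFrame t) :
    Function.Bijective (Polynomial.eval₂RingHom (A.str.app (op U)).hom
      ((j.app U) t : A.presheaf.obj (op U))) := by
  have h1 := SymAlgX.bijective_symLift_app hLq hA U hU
  have h2 := bijective_aeval_ι (t := t) (by simpa [AModX.res] using ht U le_rfl)
  have key : Polynomial.eval₂RingHom (A.str.app (op U)).hom ((j.app U) t : A.presheaf.obj (op U)) =
      (SymAlgX.symLift (A := A.presheaf.obj (op U)) (A.str.app (op U)).hom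
        (j.app U).hom (fun r x => Scheme.Modules.Hom.app_smul j r x)).comp
        (Polynomial.aeval (R := Γ(Y, U)) (SymmetricAlgebra.ι Γ(Y, U) Γ(L, U) t)).toRingHom := by
    refine Polynomial.ringHom_ext (fun r => ?_) ?_
    · simp only [Polynomial.coe_eval₂RingHom, Polynomial.eval₂_C, RingHom.comp_apply,
        AlgHom.toRingHom_eq_coe, RingHom.coe_coe, Polynomial.aeval_C]
      exact (SymAlgX.symLift_algebraMap _ _ _ r).symm
    · simp only [Polynomial.coe_eval₂RingHom, Polynomial.eval₂_X, RingHom.comp_apply,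
        AlgHom.toRingHom_eq_coe, RingHom.coe_coe, Polynomial.aeval_X]
      exact (SymAlgX.symLift_ι (A := A.presheaf.obj (op U)) _ _ _ t).symm
  rw [key]
  exact h1.comp h2

end Groth.Agent.LineCone35
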