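import Groth.Agent.ProjQMapX.QMap
import Groth.Agent.LineCone35.Frames

/-!
Gluing isomorphisms defined locally on the base; gluing along frame pairs.
-/

universe u

open CategoryTheory AlgebraicGeometry TopologicalSpace Opposite

noncomputable section

namespace Groth.Agent.LineCone35

variable {Y P Q : Scheme.{u}} {p : P ⟶ Y} {q : Q ⟶ Y} {I : Type u} (U : I → Y.Opens)

/-- Locally defined isomorphisms over the base glue. -/
theorem exists_iso_of_local {X : I → Scheme.{u}} (f : ∀ a, X a ⟶ P) (g : ∀ a, X a ⟶ Q)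
    [∀ a, IsOpenImmersion (f a)] [∀ a, IsOpenImmersion (g a)]
    (hf : ∀ a, Set.range (f a) = (p ⁻¹ᵁ U a : Set P)) (hg : ∀ a, Set.range (g a) = (q ⁻¹ᵁ U a : Set Q))
    (hover : ∀ a, f a ≫ p = g a ≫ q) (hcov : ∀ y, ∃ a, y ∈ U a)
    (href : ∀ a b (y : Y), y ∈ U a → y ∈ U b → ∃ c, y ∈ U c ∧
      (∃ ρ : X c ⟶ X a, ρ ≫ f a = f c ∧ ρ ≫ g a = g c) ∧
        ∃ ρ : X c ⟶ X b, ρ ≫ f b = f c ∧ ρ ≫ g b = g c) :
    ∃ e : P ≅ Q, e.hom ≫ q = p ∧ ∀ a, f a ≫ e.hom = g a := by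
  have mem : ∀ {R : Scheme.{u}} {r : R ⟶ Y} (k : ∀ a, X a ⟶ R),
      (∀ a, Set.range (k a) = (r ⁻¹ᵁ U a : Set R)) → ∀ a (w : R), w ∈ Set.range (k a) ↔ r w ∈ U a :=
    fun k hk a w => by rw [hk]; rfl
  obtain ⟨φ, hφ, -⟩ := ProjQMapX.existsUnique_of_refine f g
    (fun w => (hcov (p w)).imp fun a ha => (mem f hf a w).mpr ha) fun a b w ha hb => by
      obtain ⟨c, hc, h1, h2⟩ := href a b (p w) ((mem f hf a w).mp ha) ((mem f hf b w).mp hb)
      exact ⟨c, (mem f hf c w).mpr hc, h1, h2⟩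
  obtain ⟨ψ, hψ, -⟩ := ProjQMapX.existsUnique_of_refine g f
    (fun w => (hcov (q w)).imp fun a ha => (mem g hg a w).mpr ha) fun a b w ha hb => by
      obtain ⟨c, hc, ⟨ρ, h1, h1'⟩, σ, h2, h2'⟩ := href a b (q w) ((mem g hg a w).mp ha) ((mem g hg b w).mp hb)
      exact ⟨c, (mem g hg c w).mpr hc, ⟨ρ, h1', h1⟩, σ, h2', h2⟩
  have ext : ∀ {R : Scheme.{u}} {r : R ⟶ Y} {T : Scheme.{u}} (k : ∀ a, X a ⟶ R) [∀ a, IsOpenImmersion (k a)],
      (∀ a, Set.range (k a) = (r ⁻¹ᵁ U a : Set R)) → ∀ {u v : R ⟶ T}, (∀ a, k a ≫ u = k a ≫ v) → u = v := by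
    intro R r T k _ hk u v h
    refine Scheme.hom_ext_of_forall _ _ fun w => ?_
    obtain ⟨a, ha⟩ := hcov (r w)
    refine ⟨(k a).opensRange, (mem k hk a w).mpr ha, ?_⟩
    rw [← (k a).isoOpensRange_inv_comp, Category.assoc, Category.assoc, h a]
  refine ⟨⟨φ, ψ, ext f hf fun a => ?_, ext g hg fun a => ?_⟩, ext f hf fun a => ?_, hφ⟩
  · rw [← Category.assoc, hφ, hψ, Category.comp_id]
  · rw [← Category.assoc, hψ, hφ, Category.comp_id]
  · rw [← Category.assoc, hφ, hover]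

variable {L L' : Y.Modules} {η : Γ(CohB1.tensorMod L L', ⊤)}

/-- Gluing along frame pairs: it suffices to compare a pair with the pairs on basic opens inside it. -/
theorem exists_iso_of_pairs (hL : PicF.IsInvertible L) (hL' : PicF.IsInvertible L')
    (hη : InvX.IsFrame η) {X : Pair η → Scheme.{u}} (f : ∀ a, X a ⟶ P) (g : ∀ a, X a ⟶ Q)
    [∀ a, IsOpenImmersion (f a)] [∀ a, IsOpenImmersion (g a)]
    (hf : ∀ a, Set.range (f a) = (p ⁻¹ᵁ a.U : Set P)) (hg : ∀ a, Set.range (g a) = (q ⁻¹ᵁ a.U : Set Q))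
    (hover : ∀ a, f a ≫ p = g a ≫ q)
    (href : ∀ a c : Pair η, (∃ r : Γ(Y, a.U), Y.basicOpen r = c.U) →
      ∃ ρ : X c ⟶ X a, ρ ≫ f a = f c ∧ ρ ≫ g a = g c) :
    ∃ e : P ≅ Q, e.hom ≫ q = p ∧ ∀ a, f a ≫ e.hom = g a := by
  refine exists_iso_of_local (fun a : Pair η => a.U) f g hf hg hover (exists_pair hL hL' hη) ?_
  intro a b y ha hb
  obtain ⟨W, hW, hyW, -, hWa, hWb⟩ := ProjQMapX.exists_affine_basic_inter a.hU b.hU (O := ⊤) ha hb trivial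
  exact ⟨a.restrict W hW (ProjQMapX.le_of_basic hWa), hyW, href a _ hWa, href b _ hWb⟩

end Groth.Agent.LineCone35
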