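import Groth.Agent.LineCone35.Local
import Groth.Agent.LineCone35.GlueIso
import Groth.Agent.LineCone35.Scale

/-!
The pointed projective cone of a line bundle is the dual line bundle.
-/

universe u

open CategoryTheory AlgebraicGeometry TopologicalSpace Opposite
open HomogeneousLocalization
open scoped HomogeneousIdeal

noncomputable section

namespace Groth.Agent.LineCone35

variable {Y : Scheme.{u}} {L L' : Y.Modules} {η : Γ(CohB1.tensorMod L L', ⊤)}
  {𝒮 : RelProj.QCGrAlg Y} {j : L ⟶ 𝒮.toModule} (hLq : Coh.IsQCoh L) (hS : RelProj.IsGrSymAlg L 𝒮 j)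
  {𝒮h : RelProj.QCGrAlg Y} {ι : 𝒮.toQCAlg ⟶ 𝒮h.toQCAlg} {z : 𝒮h.presheaf.obj (op ⊤)}
  (hz : RelCone.IsPolyOver 𝒮 𝒮h ι z)
  {𝒮' : RelSpec.QCAlg Y} (j' : L' ⟶ 𝒮'.toModule)

namespace Pair

/-- The element of the dual algebra given by the second frame. -/
abbrev elt' (a : Pair η) : 𝒮'.presheaf.obj (op a.U) := (j'.app a.U) a.t'

/-- The coordinate ring of the pointed cone over a pair is the dual algebra. -/
def theta (a : Pair η) : Away (𝒮h.deg a.U a.hU) (RelProj.gradedHomAt ι hz.graded a.U a.hU (elt j a.t)) →+*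
    𝒮'.presheaf.obj (op a.U) :=
  (Polynomial.eval₂RingHom (𝒮'.str.app (op a.U)).hom (a.elt' j')).comp
    (RingEquiv.ofBijective _ (coordHom_bijective j hLq hS a.hU a.ht hz)).symm.toRingHom

lemma theta_coordHom (a : Pair η) (P : Polynomial Γ(Y, a.U)) :
    a.theta hLq hS hz j' (coordHom j hS (t := a.t) a.hU hz P) =
      P.eval₂ (𝒮'.str.app (op a.U)).hom (a.elt' j') :=
  congrArg (Polynomial.eval₂ _ _)
    ((RingEquiv.ofBijective _ (coordHom_bijective j hLq hS a.hU a.ht hz)).symm_apply_apply P)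

lemma theta_base (a : Pair η) (r : Γ(Y, a.U)) :
    a.theta hLq hS hz j' (ProjBC35.baseToAway (𝒮h.str.app (op a.U)).hom (𝒮h.str_mem a.U a.hU) _ r) =
      (𝒮'.str.app (op a.U)).hom r := by
  have := a.theta_coordHom hLq hS hz j' (Polynomial.C r)
  rwa [Polynomial.eval₂_C, coordHom, Polynomial.coe_eval₂RingHom, Polynomial.eval₂_C] at this

lemma theta_coord (a : Pair η) :
    a.theta hLq hS hz j' (ConeLib35.lineCoord (RelProj.gradedHomAt ι hz.graded a.U a.hU) (hz.deg_z a.U a.hU)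
      (elt_mem j hS a.hU)) = a.elt' j' := by
  have := a.theta_coordHom hLq hS hz j' Polynomial.X
  rwa [Polynomial.eval₂_X, coordHom, Polynomial.coe_eval₂RingHom, Polynomial.eval₂_X] at this

lemma theta_bijective (hL'q : Coh.IsQCoh L') (hS' : RelSpec.IsSymAlg L' 𝒮' j') (a : Pair η) :
    Function.Bijective (a.theta hLq hS hz j') :=
  (bijective_eval₂ hL'q hS' a.U a.hU a.ht').comp (RingEquiv.bijective _)

variable {PC : Scheme.{u}} (pC : PC ⟶ Y)
  (chartC : ∀ (U : Y.Opens) (hU : IsAffineOpen U), (((pC ⁻¹ᵁ U : PC.Opens) : Scheme.{u}) ≅ Proj (𝒮h.deg U hU)))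

/-- The chart of the isomorphism over a pair. -/
def dualChart (a : Pair η) : Spec (𝒮'.presheaf.obj (op a.U)) ⟶ PC :=
  Spec.map (CommRingCat.ofHom (a.theta hLq hS hz j')) ≫
    Proj.awayι (𝒮h.deg a.U a.hU) (RelProj.gradedHomAt ι hz.graded a.U a.hU (elt j a.t))
      ((RelProj.gradedHomAt ι hz.graded a.U a.hU).map_mem (elt_mem j hS a.hU)) one_pos ≫
        RelProj.emb pC chartC a.U a.hU

variable {pC chartC} (hPC : RelProj.IsRelProj 𝒮h pC chartC)

include hPC in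
lemma dualChart_comp (a : Pair η) :
    a.dualChart hLq hS hz j' pC chartC ≫ pC = 𝒮'.ι a.U a.hU ≫ 𝒮'.π := by
  rw [dualChart, Category.assoc, ProjBC35.awayι_emb_comp hPC, 𝒮'.ι_π, ← Spec.map_comp_assoc]
  congr 2
  exact CommRingCat.hom_ext (RingHom.ext fun r => a.theta_base hLq hS hz j' r)

include hPC in
lemma range_dualChart (hL'q : Coh.IsQCoh L') (hS' : RelSpec.IsSymAlg L' 𝒮' j') (a : Pair η) :
    Set.range (a.dualChart hLq hS hz j' pC chartC) =
      (RelCone.pointedProjCone 𝒮 hz pC chartC : Set PC) ∩ (pC ⁻¹ᵁ a.U : Set PC) := by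
  have : IsIso (CommRingCat.ofHom (a.theta hLq hS hz j')) :=
    (RingEquiv.ofBijective _ (a.theta_bijective hLq hS hz j' hL'q hS')).toCommRingCatIso.isIso_hom
  rw [dualChart, Scheme.Hom.comp_base, TopCat.coe_comp, Set.range_comp,
    Set.range_eq_univ.mpr (Scheme.Hom.surjective _), Set.image_univ,
    ProjQMapX.range_toP_base a.U a.hU one_pos (f := RelProj.gradedHomAt ι hz.graded a.U a.hU (elt j a.t))
      ((RelProj.gradedHomAt ι hz.graded a.U a.hU).map_mem (elt_mem j hS a.hU))]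
  ext x
  constructor
  · rintro ⟨w, hw, rfl⟩
    exact ⟨(emb_mem_iff j hLq hS a.hU a.ht hz hPC w).mpr hw, ProjQMapX.emb_mem a.U a.hU w⟩
  · rintro ⟨hx, hxU⟩
    obtain ⟨w, rfl⟩ := ProjQMapX.exists_emb_eq (chart := chartC) a.U a.hU hxU
    exact ⟨w, (emb_mem_iff j hLq hS a.hU a.ht hz hPC w).mp hx, rfl⟩

include hPC in
lemma dualChart_res (a c : Pair η) (hb : ∃ r : Γ(Y, a.U), Y.basicOpen r = c.U) :
    Spec.map (𝒮'.presheaf.map (homOfLE (ProjQMapX.le_of_basic hb)).op) ≫ a.dualChart hLq hS hz j' pC chartC =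
      c.dualChart hLq hS hz j' pC chartC := by
  have h := ProjQMapX.le_of_basic hb
  obtain ⟨u, hu, hu'⟩ := a.exists_unit c h (le_refl c.U)
  rw [show AModX.res L (le_refl c.U) c.t = c.t by simp [AModX.res]] at hu
  rw [show AModX.res L' (le_refl c.U) c.t' = c.t' by simp [AModX.res]] at hu'
  set sa := (𝒮h.str.app (op c.U)).hom
  let xa := RelProj.gradedHomAt ι hz.graded a.U a.hU (elt j a.t)
  let y := RelProj.gradedHomAt ι hz.graded c.U c.hU (elt j c.t)
  have hyx : y = 𝒮h.res a.hU c.hU h xa * sa ((u⁻¹ : Γ(Y, c.U)ˣ) : Γ(Y, c.U)) := by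
    show eltC j ι c.t = (𝒮h.presheaf.map (homOfLE h).op).hom (eltC j ι a.t) * _
    rw [eltC_res, hu, eltC_smul, mul_comm (sa (u : Γ(Y, c.U))) _, mul_assoc, ← map_mul, Units.mul_inv, map_one, mul_one]
  have hxm : 𝒮h.res a.hU c.hU h xa ∈ 𝒮h.deg c.U c.hU 1 :=
    (𝒮h.res a.hU c.hU h).map_mem ((RelProj.gradedHomAt ι hz.graded a.U a.hU).map_mem (elt_mem j hS a.hU))
  have hym : y ∈ 𝒮h.deg c.U c.hU 1 := (RelProj.gradedHomAt ι hz.graded c.U c.hU).map_mem (elt_mem j hS c.hU)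
  have he : sa ((u⁻¹ : Γ(Y, c.U)ˣ) : Γ(Y, c.U)) ∈ 𝒮h.deg c.U c.hU 0 := 𝒮h.str_mem c.U c.hU _
  have e := ProjQMapX.map_res_emb_of_basic hPC a.hU c.hU h hb
  have hRHS : Proj.awayι (𝒮h.deg c.U c.hU) (RelProj.gradedHomAt ι hz.graded c.U c.hU (elt j c.t))
      ((RelProj.gradedHomAt ι hz.graded c.U c.hU).map_mem (elt_mem j hS c.hU)) one_pos =
      Spec.map (CommRingCat.ofHom (HomogeneousLocalization.awayMap (𝒮h.deg c.U c.hU) he hyx)) ≫
        Proj.awayι (𝒮h.deg c.U c.hU) _ hxm one_pos := (awayι_scale one_pos hxm hym he hyx).symm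
  rw [dualChart, dualChart, hRHS, ← e]
  simp only [xa, y, Category.assoc]
  rw [ProjQMapX.awayι_comp_map_to_assoc (𝒮h.res a.hU c.hU h) _
    (x := RelProj.gradedHomAt ι hz.graded a.U a.hU (elt j a.t)) rfl one_pos
    ((RelProj.gradedHomAt ι hz.graded a.U a.hU).map_mem (elt_mem j hS a.hU)), ← Spec.map_comp_assoc,
    ← Spec.map_comp_assoc, ← Spec.map_comp_assoc]
  congr 2
  refine CommRingCat.hom_ext ?_
  simp only [CommRingCat.hom_comp, CommRingCat.hom_ofHom]
  refine (RingHom.cancel_right (coordHom_bijective j hLq hS a.hU a.ht hz).2).mp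
    (Polynomial.ringHom_ext (fun r => ?_) ?_)
  · simp only [RingHom.comp_apply]
    rw [theta_coordHom, Polynomial.eval₂_C, str_res]
    simp only [coordHom, Polynomial.coe_eval₂RingHom, Polynomial.eval₂_C]
    refine (c.theta_base hLq hS hz j' (AModX.resR h r)).symm.trans (congrArg _ ?_)
    exact (scale_base (𝒮h.str.app (op a.U)).hom (𝒮h.str_mem a.U a.hU) sa (𝒮h.str_mem c.U c.hU)
      (𝒮h.res a.hU c.hU h) (fun r => AModX.resR h r) (fun r => str_res 𝒮h.toQCAlg h r)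
      ((RelProj.gradedHomAt ι hz.graded a.U a.hU).map_mem (elt_mem j hS a.hU)) he hyx r).symm
  · simp only [RingHom.comp_apply]
    rw [theta_coordHom, Polynomial.eval₂_X]
    simp only [coordHom, Polynomial.coe_eval₂RingHom, Polynomial.eval₂_X]
    have hR : (𝒮'.presheaf.map (homOfLE h).op).hom (a.elt' j') =
        c.theta hLq hS hz j' (ProjBC35.baseToAway sa (𝒮h.str_mem c.U c.hU) _ ((u⁻¹ : Γ(Y, c.U)ˣ) : Γ(Y, c.U)) *
          ConeLib35.lineCoord (RelProj.gradedHomAt ι hz.graded c.U c.hU) (hz.deg_z c.U c.hU)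
            (elt_mem j hS c.hU)) := by
      rw [map_mul, theta_base, theta_coord]
      refine (AModX.app_res j' h a.t').symm.trans ?_
      rw [hu']
      exact Scheme.Modules.Hom.app_smul j' _ c.t'
    refine hR.trans (congrArg _ ?_)
    exact (scale_mk_one (𝒮h.res a.hU c.hU h)
      ((RelProj.gradedHomAt ι hz.graded a.U a.hU).map_mem (elt_mem j hS a.hU)) he hyx _ _ hym _ _
      (ConeLib35.zres_res z h) sa (𝒮h.str_mem c.U c.hU) _ rfl).symm

end Pair

include hLq hS hz in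
/-- The pointed projective cone of a line bundle is the dual line bundle. -/
theorem exists_iso_dual (hL : PicF.IsInvertible L) (hL' : PicF.IsInvertible L') (hη : InvX.IsFrame η)
    (hL'q : Coh.IsQCoh L') (hS' : RelSpec.IsSymAlg L' 𝒮' j')
    {PC : Scheme.{u}} {pC : PC ⟶ Y}
    {chartC : ∀ (U : Y.Opens) (hU : IsAffineOpen U), (((pC ⁻¹ᵁ U : PC.Opens) : Scheme.{u}) ≅ Proj (𝒮h.deg U hU))}
    (hPC : RelProj.IsRelProj 𝒮h pC chartC) :
    ∃ e : 𝒮'.spec ≅ ((RelCone.pointedProjCone 𝒮 hz pC chartC : PC.Opens) : Scheme.{u}),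
      e.hom ≫ (RelCone.pointedProjCone 𝒮 hz pC chartC).ι ≫ pC = 𝒮'.π := by
  have hsub : ∀ a : Pair η, Set.range (a.dualChart hLq hS hz j' pC chartC) ⊆
      Set.range (RelCone.pointedProjCone 𝒮 hz pC chartC).ι := fun a => by
    rw [a.range_dualChart hLq hS hz j' hPC hL'q hS', Scheme.Opens.range_ι]
    exact Set.inter_subset_left
  let g : ∀ a : Pair η, Spec (𝒮'.presheaf.obj (op a.U)) ⟶
      ((RelCone.pointedProjCone 𝒮 hz pC chartC : PC.Opens) : Scheme.{u}) := fun a =>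
    IsOpenImmersion.lift _ _ (hsub a)
  have hg : ∀ a, g a ≫ (RelCone.pointedProjCone 𝒮 hz pC chartC).ι = a.dualChart hLq hS hz j' pC chartC :=
    fun a => IsOpenImmersion.lift_fac _ _ _
  have : ∀ a, IsOpenImmersion (g a) := fun a => by
    have : IsIso (CommRingCat.ofHom (a.theta hLq hS hz j')) :=
      (RingEquiv.ofBijective _ (a.theta_bijective hLq hS hz j' hL'q hS')).toCommRingCatIso.isIso_hom
    have : IsOpenImmersion (g a ≫ (RelCone.pointedProjCone 𝒮 hz pC chartC).ι) := by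
      rw [hg]; unfold Pair.dualChart; infer_instance
    exact IsOpenImmersion.of_comp (g a) (RelCone.pointedProjCone 𝒮 hz pC chartC).ι
  have hπ : ∀ a : Pair η, Set.range (g a).base =
      (((RelCone.pointedProjCone 𝒮 hz pC chartC).ι ≫ pC) ⁻¹ᵁ a.U : Set _) := by
    intro a
    ext x
    have h1 := Set.ext_iff.mp (a.range_dualChart hLq hS hz j' hPC hL'q hS')
      ((RelCone.pointedProjCone 𝒮 hz pC chartC).ι x)
    constructor
    · rintro ⟨s, rfl⟩
      exact (h1.mp ⟨s, by rw [← hg]; rfl⟩).2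
    · intro hx
      obtain ⟨s, hs⟩ := h1.mpr ⟨x.2, hx⟩
      exact ⟨s, (RelCone.pointedProjCone 𝒮 hz pC chartC).ι.isOpenEmbedding.injective
        (by rw [← Scheme.Hom.comp_apply, hg]; exact hs)⟩
  have hcomp : ∀ a : Pair η, g a ≫ (RelCone.pointedProjCone 𝒮 hz pC chartC).ι ≫ pC = 𝒮'.ι a.U a.hU ≫ 𝒮'.π :=
    fun a => by rw [← Category.assoc, hg, a.dualChart_comp hLq hS hz j' hPC]
  have hres : ∀ (a c : Pair η) (hb : ∃ r : Γ(Y, a.U), Y.basicOpen r = c.U),
      ∃ r : Spec (𝒮'.presheaf.obj (op c.U)) ⟶ Spec (𝒮'.presheaf.obj (op a.U)),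
        r ≫ 𝒮'.ι a.U a.hU = 𝒮'.ι c.U c.hU ∧ r ≫ g a = g c := fun a c hb =>
    ⟨Spec.map (𝒮'.presheaf.map (homOfLE (ProjQMapX.le_of_basic hb)).op),
      RelSpecX.ι_res_le 𝒮' a.hU c.hU _, by
      rw [← cancel_mono (RelCone.pointedProjCone 𝒮 hz pC chartC).ι, Category.assoc, hg, hg,
        a.dualChart_res hLq hS hz j' hPC c hb]⟩
  obtain ⟨e, he, -⟩ := exists_iso_of_pairs (p := 𝒮'.π)
    (q := (RelCone.pointedProjCone 𝒮 hz pC chartC).ι ≫ pC) hL hL' hη (fun a : Pair η => 𝒮'.ι a.U a.hU) g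
    (fun a => (congrArg (fun O : 𝒮'.spec.Opens => (O : Set 𝒮'.spec)) (𝒮'.π_preimage a.U a.hU)).symm)
    hπ (fun a => (hcomp a).symm) hres
  exact ⟨e, he⟩

end Groth.Agent.LineCone35
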