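import Groth.Agent.LineCone35.Frames
import Groth.Agent.ConeLib35.Cone
import Groth.Agent.ConeLib35.LineRing
import Groth.Agent.ProjBC35.DegOne

/-!
The graded symmetric algebra of an invertible module and its projective cone over a frame.
-/

universe u

open CategoryTheory AlgebraicGeometry TopologicalSpace Opposite
open HomogeneousLocalization
open scoped HomogeneousIdeal

noncomputable section

namespace Groth.Agent.LineCone35

variable {Y : Scheme.{u}} {L : Y.Modules} {𝒮 : RelProj.QCGrAlg Y} (j : L ⟶ 𝒮.toModule)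

/-- The element of the algebra given by a section. -/
def elt {U : Y.Opens} (t : Γ(L, U)) : 𝒮.presheaf.obj (op U) := (j.app U) t

lemma elt_res {U V : Y.Opens} (h : V ≤ U) (t : Γ(L, U)) :
    (𝒮.presheaf.map (homOfLE h).op).hom (elt j t) = elt j (AModX.res L h t) :=
  (AModX.app_res j h t).symm

lemma elt_smul {U : Y.Opens} (r : Γ(Y, U)) (t : Γ(L, U)) :
    elt j (r • t) = (𝒮.str.app (op U)).hom r * elt j t :=
  Scheme.Modules.Hom.app_smul j r t

lemma str_res (A : RelSpec.QCAlg Y) {U V : Y.Opens} (h : V ≤ U) (r : Γ(Y, U)) :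
    (A.presheaf.map (homOfLE h).op).hom ((A.str.app (op U)).hom r) =
      (A.str.app (op V)).hom (AModX.resR h r) :=
  (ConcreteCategory.congr_hom (A.str.naturality (homOfLE h).op) r).symm

variable (hLq : Coh.IsQCoh L) (hS : RelProj.IsGrSymAlg L 𝒮 j)
  {U : Y.Opens} (hU : IsAffineOpen U) {t : Γ(L, U)} (ht : InvX.IsFrame t)

include hS in
lemma elt_mem : elt j t ∈ 𝒮.deg U hU 1 := hS.2 U hU t

include hLq hS hU ht in
lemma bij_elt : Function.Bijective (Polynomial.eval₂RingHom (𝒮.str.app (op U)).hom (elt j t)) :=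
  bijective_eval₂ hLq hS.1 U hU ht

include hLq hS ht in
lemma exists_of_mem_deg (n : ℕ) (b : 𝒮.presheaf.obj (op U)) (hb : b ∈ 𝒮.deg U hU n) :
    ∃ r, b = (𝒮.str.app (op U)).hom r * elt j t ^ n := by
  obtain ⟨P, rfl⟩ := (bij_elt j hLq hS hU ht).2 b
  refine ⟨P.coeff n, ?_⟩
  conv_lhs => rw [ConeLib35.coeff_eq_zero_of_degZero _ (𝒮.str_mem U hU) (elt_mem j hS hU)
    (bij_elt j hLq hS hU ht) P (n := n) hb]
  simp

include hLq hS hU ht in
lemma eq_zero_of_mul_pow (r : Γ(Y, U)) (n : ℕ)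
    (h : (𝒮.str.app (op U)).hom r * elt j t ^ n = 0) : r = 0 := by
  have h1 : Polynomial.eval₂RingHom (𝒮.str.app (op U)).hom (elt j t) (Polynomial.monomial n r) = 0 := by
    simpa using h
  simpa using (bij_elt j hLq hS hU ht).1 (h1.trans (map_zero _).symm)

include hLq hS ht in
lemma baseToAway_bijective :
    Function.Bijective (ProjBC35.baseToAway (𝒮.str.app (op U)).hom (𝒮.str_mem U hU) (elt j t)) :=
  ProjBC35.baseToAway_bijective _ (𝒮.str_mem U hU) (elt_mem j hS hU)
    (exists_of_mem_deg j hLq hS hU ht) (eq_zero_of_mul_pow j hLq hS hU ht)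

section cone

variable {𝒮h : RelProj.QCGrAlg Y} {ι : 𝒮.toQCAlg ⟶ 𝒮h.toQCAlg} {z : 𝒮h.presheaf.obj (op ⊤)}
  (hz : RelCone.IsPolyOver 𝒮 𝒮h ι z)

variable (ι) in
/-- The element of the projective cone algebra given by a section. -/
def eltC {U : Y.Opens} (t : Γ(L, U)) : 𝒮h.presheaf.obj (op U) := (ι.hom.app (op U)).hom (elt j t)

include hS hz in
lemma eltC_mem : eltC j ι t ∈ 𝒮h.deg U hU 1 := hz.graded U hU 1 _ (elt_mem j hS hU)

lemma ι_str (ι : 𝒮.toQCAlg ⟶ 𝒮h.toQCAlg) (r : Γ(Y, U)) :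
    (ι.hom.app (op U)).hom ((𝒮.str.app (op U)).hom r) = (𝒮h.str.app (op U)).hom r :=
  congr($(NatTrans.congr_app ι.comm (op U)).hom r)

lemma eltC_res {U V : Y.Opens} (h : V ≤ U) (t : Γ(L, U)) :
    (𝒮h.presheaf.map (homOfLE h).op).hom (eltC j ι t) = eltC j ι (AModX.res L h t) := by
  rw [eltC, eltC, ← elt_res]
  exact (ConcreteCategory.congr_hom (ι.hom.naturality (homOfLE h).op) (elt j t)).symm

lemma eltC_smul {U : Y.Opens} (r : Γ(Y, U)) (t : Γ(L, U)) :
    eltC j ι (r • t) = (𝒮h.str.app (op U)).hom r * eltC j ι t := by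
  rw [eltC, elt_smul, map_mul, ι_str]
  rfl

include hLq hS hz hU ht in
lemma bij_cone : Function.Bijective
    (Polynomial.eval₂RingHom (Polynomial.eval₂RingHom (𝒮h.str.app (op U)).hom (eltC j ι t))
      (ConeLib35.zres z U)) := by
  have key : Polynomial.eval₂RingHom (Polynomial.eval₂RingHom (𝒮h.str.app (op U)).hom (eltC j ι t))
      (ConeLib35.zres z U) =
      (Polynomial.eval₂RingHom (ι.hom.app (op U)).hom (ConeLib35.zres z U)).comp
        (Polynomial.mapRingHom (Polynomial.eval₂RingHom (𝒮.str.app (op U)).hom (elt j t))) := by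
    refine Polynomial.ringHom_ext (fun Q => ?_) (by simp)
    simp only [Polynomial.coe_eval₂RingHom, Polynomial.eval₂_C, RingHom.comp_apply,
      Polynomial.coe_mapRingHom, Polynomial.map_C]
    rw [Polynomial.hom_eval₂]
    congr 1
    exact RingHom.ext fun r => (ι_str ι r).symm
  rw [key]
  exact (hz.bij U hU).comp
    (Polynomial.mapEquiv (RingEquiv.ofBijective _ (bij_elt j hLq hS hU ht))).bijective

include hLq hS hz hU ht in
/-- Homomorphisms out of the projective cone algebra over a frame are determined by three values. -/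
lemma ringHom_ext_cone {C : Type*} [CommRing C] {f g : 𝒮h.presheaf.obj (op U) →+* C}
    (hstr : ∀ r, f ((𝒮h.str.app (op U)).hom r) = g ((𝒮h.str.app (op U)).hom r))
    (ht₀ : f (eltC j ι t) = g (eltC j ι t)) (hz₀ : f (ConeLib35.zres z U) = g (ConeLib35.zres z U)) :
    f = g := by
  refine RingHom.ext fun b => ?_
  obtain ⟨P, rfl⟩ := (bij_cone j hLq hS hU ht hz).2 b
  refine RingHom.congr_fun (f := f.comp _) (g := g.comp _) (Polynomial.ringHom_ext' ?_ ?_) P
  · refine Polynomial.ringHom_ext (fun r => ?_) ?_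
    · simpa using hstr r
    · simpa using ht₀
  · simpa using hz₀

/-- The coordinate hom `R[X] → 𝒮h(U)_(t)`, `X ↦ z / t`. -/
def coordHom : Polynomial Γ(Y, U) →+*
    Away (𝒮h.deg U hU) (RelProj.gradedHomAt ι hz.graded U hU (elt j t)) :=
  Polynomial.eval₂RingHom
    (ProjBC35.baseToAway (𝒮h.str.app (op U)).hom (𝒮h.str_mem U hU)
      (RelProj.gradedHomAt ι hz.graded U hU (elt j t)))
    (ConeLib35.lineCoord (RelProj.gradedHomAt ι hz.graded U hU) (hz.deg_z U hU) (elt_mem j hS hU))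

include hLq ht in
lemma coordHom_bijective : Function.Bijective (coordHom j hS (t := t) hU hz) := by
  have key : coordHom j hS (t := t) hU hz =
      (Polynomial.eval₂RingHom (Away.map (RelProj.gradedHomAt ι hz.graded U hU) (elt j t))
        (ConeLib35.lineCoord (RelProj.gradedHomAt ι hz.graded U hU) (hz.deg_z U hU) (elt_mem j hS hU))).comp
        (Polynomial.mapRingHom (ProjBC35.baseToAway (𝒮.str.app (op U)).hom (𝒮.str_mem U hU) (elt j t))) := by
    refine Polynomial.ringHom_ext (fun r => ?_) (by simp [coordHom])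
    simp only [coordHom, Polynomial.coe_eval₂RingHom, Polynomial.eval₂_C, RingHom.comp_apply,
      Polynomial.coe_mapRingHom, Polynomial.map_C]
    exact ProjBC35.baseToAway_map (g := RingHom.id _) (ρ := (𝒮.str.app (op U)).hom)
      (ρ' := (𝒮h.str.app (op U)).hom) (hρ := 𝒮.str_mem U hU) (hρ' := 𝒮h.str_mem U hU)
      (φ := RelProj.gradedHomAt ι hz.graded U hU) (fun r => (ι_str ι r).symm) r
  rw [key]
  exact (ConeLib35.line_bijective (RelProj.gradedHomAt ι hz.graded U hU) (hz.deg_z U hU) (hz.bij U hU)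
    (elt_mem j hS hU)).comp
    (Polynomial.mapEquiv (RingEquiv.ofBijective _ (baseToAway_bijective j hLq hS hU ht))).bijective

include hLq hS ht in
lemma domOpen_eq : RelCone.domOpen (RelProj.gradedHomAt ι hz.graded U hU) =
    Proj.basicOpen (𝒮h.deg U hU) (eltC j ι t) := by
  refine Opens.ext (Set.ext fun w => ?_)
  refine (ProjQMapX.mem_domOpen_iff _ w).trans ⟨?_, fun hw => ⟨1, elt j t, one_pos, elt_mem j hS hU, hw⟩⟩
  rintro ⟨d, f, hd, hf, hw⟩
  obtain ⟨r, rfl⟩ := exists_of_mem_deg j hLq hS hU ht d f hf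
  refine Proj.basicOpen_mono (𝒮h.deg U hU) _ _ ?_ hw
  show eltC j ι t ∣ (ι.hom.app (op U)).hom _
  rw [map_mul, map_pow]
  exact Dvd.dvd.mul_left (dvd_pow_self (eltC j ι t) hd.ne') _

variable {PC : Scheme.{u}} {pC : PC ⟶ Y}
  {chartC : ∀ (U : Y.Opens) (hU : IsAffineOpen U), (((pC ⁻¹ᵁ U : PC.Opens) : Scheme.{u}) ≅ Proj (𝒮h.deg U hU))}
  (hPC : RelProj.IsRelProj 𝒮h pC chartC)

include hLq hS ht hPC in
lemma emb_mem_iff (w : Proj (𝒮h.deg U hU)) :
    RelProj.emb pC chartC U hU w ∈ RelCone.pointedProjCone 𝒮 hz pC chartC ↔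
      w ∈ Proj.basicOpen (𝒮h.deg U hU) (eltC j ι t) := by
  rw [ConeLib35.emb_mem_pointedProjCone_iff hz hPC U hU, domOpen_eq j hLq hS hU ht hz]

end cone

end Groth.Agent.LineCone35
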