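import Groth.Agent.LineCone35.Local
import Groth.Agent.LineCone35.GlueIso
import Groth.Agent.LineCone35.Scale

/-!
The projective closures of a line bundle and of its dual are isomorphic, zero section and infinity
being exchanged.
-/

universe u

open CategoryTheory AlgebraicGeometry TopologicalSpace Opposite
open HomogeneousLocalization
open scoped HomogeneousIdeal

noncomputable section

namespace Groth.Agent.LineCone35

variable {Y : Scheme.{u}} {L L' : Y.Modules}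
  {𝒮 : RelProj.QCGrAlg Y} {j : L ⟶ 𝒮.toModule} (hLq : Coh.IsQCoh L) (hS : RelProj.IsGrSymAlg L 𝒮 j)
  {𝒮h : RelProj.QCGrAlg Y} {ι : 𝒮.toQCAlg ⟶ 𝒮h.toQCAlg} {z : 𝒮h.presheaf.obj (op ⊤)}
  (hz : RelCone.IsPolyOver 𝒮 𝒮h ι z)
  {𝒮' : RelProj.QCGrAlg Y} {j' : L' ⟶ 𝒮'.toModule} (hL'q : Coh.IsQCoh L') (hS' : RelProj.IsGrSymAlg L' 𝒮' j')
  {𝒮h' : RelProj.QCGrAlg Y} {ι' : 𝒮'.toQCAlg ⟶ 𝒮h'.toQCAlg} {z' : 𝒮h'.presheaf.obj (op ⊤)}
  (hz' : RelCone.IsPolyOver 𝒮' 𝒮h' ι' z')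
  {U : Y.Opens} (hU : IsAffineOpen U) {t : Γ(L, U)} (ht : InvX.IsFrame t)
  {t' : Γ(L', U)} (ht' : InvX.IsFrame t')

include hLq hS hz hU ht in
/-- Induction along the monomials of the projective cone algebra over a frame. -/
lemma monomial_induction {P : 𝒮h.presheaf.obj (op U) → Prop}
    (hadd : ∀ a b, P a → P b → P (a + b))
    (hmon : ∀ (r : Γ(Y, U)) (i k : ℕ),
      P ((𝒮h.str.app (op U)).hom r * eltC j ι t ^ i * ConeLib35.zres z U ^ k)) (a) : P a := by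
  obtain ⟨Q, rfl⟩ := (bij_cone j hLq hS hU ht hz).2 a
  induction Q using Polynomial.induction_on' with
  | add p q hp hq => rw [map_add]; exact hadd _ _ hp hq
  | monomial k q =>
    induction q using Polynomial.induction_on' with
    | add p q hp hq => rw [map_add, map_add]; exact hadd _ _ hp hq
    | monomial i r =>
      simpa [Polynomial.eval₂_monomial] using hmon r i k

include hLq hS hz hU ht in
/-- An additive identity in degree `n` may be checked on monomials. -/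
lemma eqOn_deg {C : Type*} [AddCommGroup C] (n : ℕ) (f g : 𝒮h.presheaf.obj (op U) →+ C)
    (h : ∀ (r : Γ(Y, U)) (i k : ℕ), i + k = n →
      f ((𝒮h.str.app (op U)).hom r * eltC j ι t ^ i * ConeLib35.zres z U ^ k) =
        g ((𝒮h.str.app (op U)).hom r * eltC j ι t ^ i * ConeLib35.zres z U ^ k))
    {b : 𝒮h.presheaf.obj (op U)} (hb : b ∈ 𝒮h.deg U hU n) : f b = g b := by
  classical
  suffices H : ∀ a, f (GradedRing.proj (𝒮h.deg U hU) n a) = g (GradedRing.proj (𝒮h.deg U hU) n a) by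
    have := H b
    rwa [GradedRing.proj_apply, DirectSum.decompose_of_mem_same _ hb] at this
  refine fun a => monomial_induction hLq hS hz hU ht
    (P := fun a => f (GradedRing.proj (𝒮h.deg U hU) n a) = g (GradedRing.proj (𝒮h.deg U hU) n a))
    (fun a b ha hb => by simp only [map_add]; rw [ha, hb]) (fun r i k => ?_) a
  have hm : (𝒮h.str.app (op U)).hom r * eltC j ι t ^ i * ConeLib35.zres z U ^ k ∈ 𝒮h.deg U hU (i + k) := by
    have h1 := SetLike.mul_mem_graded (SetLike.mul_mem_graded (𝒮h.str_mem U hU r)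
      (SetLike.pow_mem_graded i (eltC_mem j hS hU (t := t) hz))) (SetLike.pow_mem_graded k (hz.deg_z U hU))
    simpa using h1
  rw [GradedRing.proj_apply]
  by_cases e : i + k = n
  · subst e
    rw [DirectSum.decompose_of_mem_same _ hm]
    exact h r i k rfl
  · rw [DirectSum.decompose_of_mem_ne _ hm e, map_zero, map_zero]

variable (t') (j') (ι') (z') in
/-- The ring map exchanging the coordinates. -/
def sigmaHom : 𝒮h.presheaf.obj (op U) →+* 𝒮h'.presheaf.obj (op U) :=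
  (Polynomial.eval₂RingHom (Polynomial.eval₂RingHom (𝒮h'.str.app (op U)).hom (ConeLib35.zres z' U))
      (eltC j' ι' t')).comp
    (RingEquiv.ofBijective _ (bij_cone j hLq hS hU ht hz)).symm.toRingHom

lemma sigmaHom_apply (Q : Polynomial (Polynomial Γ(Y, U))) :
    sigmaHom hLq hS hz j' ι' z' hU ht t'
      (Polynomial.eval₂RingHom (Polynomial.eval₂RingHom (𝒮h.str.app (op U)).hom (eltC j ι t))
        (ConeLib35.zres z U) Q) =
      Polynomial.eval₂RingHom (Polynomial.eval₂RingHom (𝒮h'.str.app (op U)).hom (ConeLib35.zres z' U))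
        (eltC j' ι' t') Q :=
  congrArg (Polynomial.eval₂RingHom _ _)
    ((RingEquiv.ofBijective _ (bij_cone j hLq hS hU ht hz)).symm_apply_apply Q)

lemma sigmaHom_str (r : Γ(Y, U)) :
    sigmaHom hLq hS hz j' ι' z' hU ht t' ((𝒮h.str.app (op U)).hom r) = (𝒮h'.str.app (op U)).hom r := by
  simpa using sigmaHom_apply (j' := j') (ι' := ι') (z' := z') (t' := t') hLq hS hz hU ht
    (Polynomial.C (Polynomial.C r))

lemma sigmaHom_elt :
    sigmaHom hLq hS hz j' ι' z' hU ht t' (eltC j ι t) = ConeLib35.zres z' U := by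
  simpa using sigmaHom_apply (j' := j') (ι' := ι') (z' := z') (t' := t') hLq hS hz hU ht
    (Polynomial.C Polynomial.X)

lemma sigmaHom_z :
    sigmaHom hLq hS hz j' ι' z' hU ht t' (ConeLib35.zres z U) = eltC j' ι' t' := by
  simpa using sigmaHom_apply (j' := j') (ι' := ι') (z' := z') (t' := t') hLq hS hz hU ht Polynomial.X

include hS' hz' in
lemma sigmaHom_mem {n : ℕ} {b : 𝒮h.presheaf.obj (op U)} (hb : b ∈ 𝒮h.deg U hU n) :
    sigmaHom hLq hS hz j' ι' z' hU ht t' b ∈ 𝒮h'.deg U hU n := by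
  classical
  have := eqOn_deg hLq hS hz hU ht n
    ((GradedRing.proj (𝒮h'.deg U hU) n).comp (sigmaHom hLq hS hz j' ι' z' hU ht t').toAddMonoidHom)
    (sigmaHom hLq hS hz j' ι' z' hU ht t').toAddMonoidHom (fun r i k e => ?_) hb
  · rw [AddMonoidHom.comp_apply, RingHom.toAddMonoidHom_eq_coe, AddMonoidHom.coe_coe,
      GradedRing.proj_apply] at this
    exact this ▸ ((DirectSum.decompose (𝒮h'.deg U hU) _) n).2
  · rw [AddMonoidHom.comp_apply, RingHom.toAddMonoidHom_eq_coe, AddMonoidHom.coe_coe,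
      map_mul (sigmaHom hLq hS hz j' ι' z' hU ht t'), map_mul (sigmaHom hLq hS hz j' ι' z' hU ht t'),
      map_pow (sigmaHom hLq hS hz j' ι' z' hU ht t'), map_pow (sigmaHom hLq hS hz j' ι' z' hU ht t'),
      sigmaHom_str, sigmaHom_elt, sigmaHom_z, GradedRing.proj_apply]
    refine DirectSum.decompose_of_mem_same _ ?_
    have h1 := SetLike.mul_mem_graded (SetLike.mul_mem_graded (𝒮h'.str_mem U hU r)
      (SetLike.pow_mem_graded i (hz'.deg_z U hU)))
      (SetLike.pow_mem_graded k (eltC_mem j' hS' hU (t := t') hz'))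
    simpa [← e] using h1

variable (t') in
/-- The graded map exchanging the coordinates. -/
def sigma : 𝒮h.deg U hU →+*ᵍ 𝒮h'.deg U hU :=
  { sigmaHom hLq hS hz j' ι' z' hU ht t' with
    map_mem := fun hb => sigmaHom_mem hLq hS hz hS' hz' hU ht hb }

include hL'q ht' in
lemma sigma_comp_sigma :
    (sigma hLq hS hz hS' hz' hU ht t').comp (sigma hL'q hS' hz' hS hz hU ht' t) = .id _ := by
  refine GradedRingHom.ext fun b => RingHom.congr_fun
    (f := (sigmaHom hLq hS hz j' ι' z' hU ht t').comp (sigmaHom hL'q hS' hz' j ι z hU ht' t))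
    (g := RingHom.id _) ?_ b
  refine ringHom_ext_cone j' hL'q hS' hU ht' hz' (fun r => ?_) ?_ ?_
  · simp [sigmaHom_str]
  · simp [sigmaHom_elt, sigmaHom_z]
  · simp [sigmaHom_elt, sigmaHom_z]

include hL'q ht' in
lemma sigma_irrelevant : (𝒮h'.deg U hU)₊ ≤ ((𝒮h.deg U hU)₊).map (sigma hLq hS hz hS' hz' hU ht t') := by
  rw [HomogeneousIdeal.irrelevant_le]
  intro n hn b hb
  have e : sigma hLq hS hz hS' hz' hU ht t' (sigma hL'q hS' hz' hS hz hU ht' t b) = b :=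
    congr($(sigma_comp_sigma hLq hS hz hL'q hS' hz' hU ht ht') b)
  rw [← e]
  exact Ideal.mem_map_of_mem _
    (HomogeneousIdeal.mem_irrelevant_of_mem _ hn ((sigma hL'q hS' hz' hS hz hU ht' t).map_mem hb))

/-- The exchange of coordinates on `Proj`. -/
def sigmaMap : Proj (𝒮h'.deg U hU) ⟶ Proj (𝒮h.deg U hU) :=
  Proj.map (sigma hLq hS hz hS' hz' hU ht t') (sigma_irrelevant hLq hS hz hL'q hS' hz' hU ht ht')

instance isIso_sigmaMap : IsIso (sigmaMap hLq hS hz hL'q hS' hz' hU ht ht') := by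
  refine ⟨⟨sigmaMap hL'q hS' hz' hLq hS hz hU ht' ht, ?_, ?_⟩⟩
  · rw [sigmaMap, sigmaMap, ← Proj.map_comp]
    convert! Proj.map_id (𝒜 := 𝒮h'.deg U hU) using 2
    exact sigma_comp_sigma hLq hS hz hL'q hS' hz' hU ht ht'
  · rw [sigmaMap, sigmaMap, ← Proj.map_comp]
    convert! Proj.map_id (𝒜 := 𝒮h.deg U hU) using 2
    exact sigma_comp_sigma hL'q hS' hz' hLq hS hz hU ht' ht

lemma sigmaMap_mem_elt (w : Proj (𝒮h'.deg U hU)) :
    sigmaMap hLq hS hz hL'q hS' hz' hU ht ht' w ∈ Proj.basicOpen (𝒮h.deg U hU) (eltC j ι t) ↔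
      w ∈ Proj.basicOpen (𝒮h'.deg U hU) (ConeLib35.zres z' U) := by
  show w ∈ Proj.basicOpen (𝒮h'.deg U hU) (sigmaHom hLq hS hz j' ι' z' hU ht t' (eltC j ι t)) ↔ _
  rw [sigmaHom_elt]

lemma sigmaMap_mem_z (w : Proj (𝒮h'.deg U hU)) :
    sigmaMap hLq hS hz hL'q hS' hz' hU ht ht' w ∈ Proj.basicOpen (𝒮h.deg U hU) (ConeLib35.zres z U) ↔
      w ∈ Proj.basicOpen (𝒮h'.deg U hU) (eltC j' ι' t') := by
  show w ∈ Proj.basicOpen (𝒮h'.deg U hU) (sigmaHom hLq hS hz j' ι' z' hU ht t' (ConeLib35.zres z U)) ↔ _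
  rw [sigmaHom_z]

section glue

variable {η : Γ(CohB1.tensorMod L L', ⊤)}

lemma sigmaMap_over {PC : Scheme.{u}} {pC : PC ⟶ Y}
    {chartC : ∀ (U : Y.Opens) (hU : IsAffineOpen U), (((pC ⁻¹ᵁ U : PC.Opens) : Scheme.{u}) ≅ Proj (𝒮h.deg U hU))}
    (hPC : RelProj.IsRelProj 𝒮h pC chartC) {PC' : Scheme.{u}} {pC' : PC' ⟶ Y}
    {chartC' : ∀ (U : Y.Opens) (hU : IsAffineOpen U), (((pC' ⁻¹ᵁ U : PC'.Opens) : Scheme.{u}) ≅ Proj (𝒮h'.deg U hU))}
    (hPC' : RelProj.IsRelProj 𝒮h' pC' chartC') :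
    sigmaMap hLq hS hz hL'q hS' hz' hU ht ht' ≫ RelProj.emb pC chartC U hU ≫ pC =
      RelProj.emb pC' chartC' U hU ≫ pC' := by
  refine (Proj.mapAffineOpenCover (sigma hLq hS hz hS' hz' hU ht t')
    (sigma_irrelevant hLq hS hz hL'q hS' hz' hU ht ht')).openCover.hom_ext _ _ ?_
  intro c
  suffices H : ∀ (d : ℕ) (hd : 0 < d) (s : 𝒮h.presheaf.obj (op U)) (hs : s ∈ 𝒮h.deg U hU d),
      Proj.awayι (𝒮h'.deg U hU) (sigma hLq hS hz hS' hz' hU ht t' s)
          ((sigma hLq hS hz hS' hz' hU ht t').map_mem hs) hd ≫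
          sigmaMap hLq hS hz hL'q hS' hz' hU ht ht' ≫ RelProj.emb pC chartC U hU ≫ pC =
        Proj.awayι (𝒮h'.deg U hU) (sigma hLq hS hz hS' hz' hU ht t' s)
          ((sigma hLq hS hz hS' hz' hU ht t').map_mem hs) hd ≫
          RelProj.emb pC' chartC' U hU ≫ pC' from H c.1 c.1.2 c.2 c.2.2
  intro d hd s hs
  rw [sigmaMap, ProjQMapX.awayι_comp_map_to_assoc (sigma hLq hS hz hS' hz' hU ht t') _ (x := s) rfl hd hs,
    ← Category.assoc (Proj.awayι _ s hs hd),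
    ProjBC35.awayι_emb_comp hPC U hU hd s hs, ← Category.assoc (Proj.awayι (𝒮h'.deg U hU) _ _ _),
    ProjBC35.awayι_emb_comp hPC' U hU hd _ _, ← Spec.map_comp_assoc]
  congr 2
  exact CommRingCat.hom_ext (RingHom.ext fun r =>
    (ProjBC35.baseToAway_map (g := RingHom.id _) (ρ := (𝒮h.str.app (op U)).hom)
      (ρ' := (𝒮h'.str.app (op U)).hom) (hρ := 𝒮h.str_mem U hU) (hρ' := 𝒮h'.str_mem U hU)
      (φ := sigma hLq hS hz hS' hz' hU ht t')
      (fun r => (sigmaHom_str (j' := j') (ι' := ι') (z' := z') (t' := t') hLq hS hz hU ht r).symm) r).symm)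

lemma sigma_res (a c : Pair η) (hb : ∃ r : Γ(Y, a.U), Y.basicOpen r = c.U)
    (hr : (𝒮h.deg c.U c.hU)₊ ≤ ((𝒮h.deg a.U a.hU)₊).map (𝒮h.res a.hU c.hU (ProjQMapX.le_of_basic hb)))
    (hr' : (𝒮h'.deg c.U c.hU)₊ ≤ ((𝒮h'.deg a.U a.hU)₊).map (𝒮h'.res a.hU c.hU (ProjQMapX.le_of_basic hb))) :
    Proj.map (𝒮h'.res a.hU c.hU (ProjQMapX.le_of_basic hb)) hr' ≫
        sigmaMap hLq hS hz hL'q hS' hz' a.hU a.ht a.ht' =
      sigmaMap hLq hS hz hL'q hS' hz' c.hU c.ht c.ht' ≫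
        Proj.map (𝒮h.res a.hU c.hU (ProjQMapX.le_of_basic hb)) hr := by
  have h := ProjQMapX.le_of_basic hb
  obtain ⟨u, hu, hu'⟩ := a.exists_unit c h (le_refl c.U)
  rw [show AModX.res L (le_refl c.U) c.t = c.t by simp [AModX.res]] at hu
  rw [show AModX.res L' (le_refl c.U) c.t' = c.t' by simp [AModX.res]] at hu'
  set sa' := (𝒮h'.str.app (op c.U)).hom
  rw [sigmaMap, sigmaMap, ← Proj.map_comp, ← Proj.map_comp]
  refine map_eq_of_scale _ _ _ _ (sa' (u : Γ(Y, c.U))) (sa' ((u⁻¹ : Γ(Y, c.U)ˣ) : Γ(Y, c.U)))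
    (𝒮h'.str_mem c.U c.hU _) (by rw [← map_mul, Units.mul_inv, map_one]) fun n b hb' => ?_
  refine eqOn_deg hLq hS hz a.hU a.ht n
    ((sigmaHom hLq hS hz j' ι' z' c.hU c.ht c.t').comp
      (𝒮h.presheaf.map (homOfLE h).op).hom).toAddMonoidHom
    ((AddMonoidHom.mulLeft (sa' (u : Γ(Y, c.U)) ^ n)).comp
      ((𝒮h'.presheaf.map (homOfLE h).op).hom.comp
        (sigmaHom hLq hS hz j' ι' z' a.hU a.ht a.t')).toAddMonoidHom) (fun r i k e => ?_) hb'
  simp only [RingHom.toAddMonoidHom_eq_coe, AddMonoidHom.coe_coe, RingHom.comp_apply,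
    AddMonoidHom.comp_apply, AddMonoidHom.coe_mulLeft, map_mul, map_pow]
  rw [str_res, eltC_res, hu, eltC_smul, ConeLib35.zres_res, map_mul, sigmaHom_str, sigmaHom_str,
    sigmaHom_elt, sigmaHom_z, sigmaHom_str, sigmaHom_elt, sigmaHom_z, str_res, ConeLib35.zres_res,
    eltC_res, hu', eltC_smul, mul_pow, mul_pow, ← e, pow_add]
  have hinv : sa' (u : Γ(Y, c.U)) ^ k * sa' ((u⁻¹ : Γ(Y, c.U)ˣ) : Γ(Y, c.U)) ^ k = 1 := by
    rw [← mul_pow, ← map_mul, Units.mul_inv, map_one, one_pow]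
  linear_combination
    -(sa' (u : Γ(Y, c.U)) ^ i * sa' (AModX.resR h r) * ConeLib35.zres z' c.U ^ i * eltC j' ι' c.t' ^ k) * hinv

variable {PC : Scheme.{u}} {pC : PC ⟶ Y}
  {chartC : ∀ (U : Y.Opens) (hU : IsAffineOpen U), (((pC ⁻¹ᵁ U : PC.Opens) : Scheme.{u}) ≅ Proj (𝒮h.deg U hU))}
  (hPC : RelProj.IsRelProj 𝒮h pC chartC)
  {PC' : Scheme.{u}} {pC' : PC' ⟶ Y}
  {chartC' : ∀ (U : Y.Opens) (hU : IsAffineOpen U), (((pC' ⁻¹ᵁ U : PC'.Opens) : Scheme.{u}) ≅ Proj (𝒮h'.deg U hU))}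
  (hPC' : RelProj.IsRelProj 𝒮h' pC' chartC')

include hLq hS hz hL'q hS' hz' hPC hPC' in
/-- The projective closures of a line bundle and of its dual. -/
theorem exists_swap_iso (hL : PicF.IsInvertible L) (hL' : PicF.IsInvertible L') (hη : InvX.IsFrame η)
    {i : 𝒮.toQCAlg.spec ⟶ PC} (hi : RelCone.IsConeImm 𝒮 hz pC chartC i)
    {i' : 𝒮'.toQCAlg.spec ⟶ PC'} (hi' : RelCone.IsConeImm 𝒮' hz' pC' chartC' i') :
    ∃ e : PC' ≅ PC, e.hom ≫ pC = pC' ∧
      e.hom.base ⁻¹' (RelCone.pointedProjCone 𝒮 hz pC chartC : Set PC) = Set.range i'.base ∧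
      e.hom.base ⁻¹' Set.range i.base = (RelCone.pointedProjCone 𝒮' hz' pC' chartC' : Set PC') := by
  have href : ∀ a c : Pair η, (∃ r : Γ(Y, a.U), Y.basicOpen r = c.U) →
      ∃ ρ : Proj (𝒮h'.deg c.U c.hU) ⟶ Proj (𝒮h'.deg a.U a.hU),
        ρ ≫ RelProj.emb pC' chartC' a.U a.hU = RelProj.emb pC' chartC' c.U c.hU ∧
        ρ ≫ sigmaMap hLq hS hz hL'q hS' hz' a.hU a.ht a.ht' ≫ RelProj.emb pC chartC a.U a.hU =
          sigmaMap hLq hS hz hL'q hS' hz' c.hU c.ht c.ht' ≫ RelProj.emb pC chartC c.U c.hU := by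
    intro a c hb
    refine ⟨Proj.map (𝒮h'.res a.hU c.hU (ProjQMapX.le_of_basic hb))
        (Proj16.irrelevant_le_res 𝒮h' a.hU c.hU _ hb),
        ProjQMapX.map_res_emb_of_basic hPC' a.hU c.hU _ hb, ?_⟩
    rw [← Category.assoc, sigma_res hLq hS hz hL'q hS' hz' a c hb
      (Proj16.irrelevant_le_res 𝒮h a.hU c.hU _ hb), Category.assoc,
      ProjQMapX.map_res_emb_of_basic hPC a.hU c.hU _ hb]
  obtain ⟨e, he, hea⟩ := exists_iso_of_pairs (p := pC') (q := pC) hL hL' hη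
    (fun a : Pair η => RelProj.emb pC' chartC' a.U a.hU)
    (fun a : Pair η => sigmaMap hLq hS hz hL'q hS' hz' a.hU a.ht a.ht' ≫ RelProj.emb pC chartC a.U a.hU)
    (fun a => ProjQMapX.range_emb a.U a.hU) (fun a => by
      rw [Scheme.Hom.comp_base, TopCat.coe_comp, Set.range_comp,
        Set.range_eq_univ.mpr (Scheme.Hom.surjective _), Set.image_univ]
      exact ProjQMapX.range_emb a.U a.hU)
    (fun a => by rw [Category.assoc, sigmaMap_over hLq hS hz hL'q hS' hz' a.hU a.ht a.ht' hPC hPC']) href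
  refine ⟨e, he, ?_, ?_⟩
  all_goals
      ext x
      obtain ⟨a, ha⟩ := exists_pair hL hL' hη (pC' x)
      obtain ⟨w, rfl⟩ := ProjQMapX.exists_emb_eq (chart := chartC') a.U a.hU ha
      rw [Set.mem_preimage]
      rw [show e.hom (RelProj.emb pC' chartC' a.U a.hU w) =
        RelProj.emb pC chartC a.U a.hU (sigmaMap hLq hS hz hL'q hS' hz' a.hU a.ht a.ht' w) from
          congr($(hea a) w)]
  · exact ((emb_mem_iff j hLq hS a.hU a.ht hz hPC _).trans
        (sigmaMap_mem_elt hLq hS hz hL'q hS' hz' a.hU a.ht a.ht' w)).trans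
          (ConeLib35.emb_mem_range_iff hz' hPC' hi' a.U a.hU w).symm
  · exact ((ConeLib35.emb_mem_range_iff hz hPC hi a.U a.hU _).trans
        (sigmaMap_mem_z hLq hS hz hL'q hS' hz' a.hU a.ht a.ht' w)).trans
          (emb_mem_iff j' hL'q hS' a.hU a.ht' hz' hPC' w).symm

end glue

end Groth.Agent.LineCone35
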